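import Groth.Agent.Krr.H463.HomTensor
import Groth.Agent.Sga67.ExtSheaf

/-!
# The isomorphism `Λ^n E ≅ Hom(E, Λ^{n+1} E)` for `E` finite locally free of rank `n + 1`
-/

set_option autoImplicit false
universe u

open CategoryTheory CategoryTheory.Limits AlgebraicGeometry Opposite TopologicalSpace
open scoped TensorProduct

namespace Groth.Agent.Krr.H463.Wedge

open Groth.Agent.Sga67.Sec Groth.Agent.Sga67.LocBasis Groth.Agent.Sga67.ExtSheaf
open Groth.Agent.CohqB.HomSheaf (homSheaf)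
open Groth.Agent.Krr.H463.HomBasis Groth.Agent.Krr.H463.HomTensor
open Groth.Agent.Krr.H487.ExtPull (bijective_of_locBasis)

/-- The permutation `(i, 0, …, î, …, n)`. -/
noncomputable def consPerm {n : ℕ} (i : Fin (n + 1)) : Equiv.Perm (Fin (n + 1)) :=
  (finSuccEquiv' 0).trans (finSuccEquiv' i).symm

theorem consPerm_zero {n : ℕ} (i : Fin (n + 1)) : consPerm i 0 = i := by
  simp [consPerm]

theorem consPerm_succ {n : ℕ} (i : Fin (n + 1)) (k : Fin n) : consPerm i k.succ = i.succAbove k := by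
  have : finSuccEquiv' (0 : Fin (n + 1)) k.succ = some k := by
    rw [← Fin.succAbove_zero, finSuccEquiv'_succAbove]
  simp [consPerm, this]

/-- The index equivalence `i ↦ {0, …, n} ∖ {i}`. -/
noncomputable def compl (n : ℕ) : Fin (n + 1) ≃ Set.powersetCard (Fin (n + 1)) n :=
  Equiv.ofBijective (fun i => Set.powersetCard.ofFinEmbEquiv i.succAboveOrderEmb) (by
    rw [Fintype.bijective_iff_injective_and_card]
    constructor
    · intro i j hij
      have h1 := Set.powersetCard.ofFinEmbEquiv.injective hij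
      exact Fin.succAbove_left_injective (funext fun k => congrArg (fun f => f k) h1)
    · rw [Fintype.card_fin, ← Nat.card_eq_fintype_card, Set.powersetCard.card, Nat.card_fin]
      simp)

section Alg

variable {R M : Type*} [CommRing R] [AddCommGroup M] [Module R M]

theorem family_compl {n : ℕ} (v : Fin (n + 1) → M) (i : Fin (n + 1)) :
    exteriorPower.ιMulti_family R n v (compl n i) = exteriorPower.ιMulti R n (v ∘ i.succAbove) := by
  rw [exteriorPower.ιMulti_family]
  congr 1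
  funext k
  simp [compl]

theorem cons_self {n : ℕ} (v : Fin (n + 1) → M) (i : Fin (n + 1)) :
    exteriorPower.ιMulti R (n + 1) (Fin.cons (v i) (v ∘ i.succAbove)) =
      Equiv.Perm.sign (consPerm i) • exteriorPower.ιMulti R (n + 1) v := by
  rw [← AlternatingMap.map_perm]
  congr 1
  funext k
  refine Fin.cases ?_ (fun k => ?_) k
  · rw [Fin.cons_zero, Function.comp_apply, consPerm_zero]
  · rw [Fin.cons_succ, Function.comp_apply, Function.comp_apply, consPerm_succ]

theorem cons_ne {n : ℕ} (v : Fin (n + 1) → M) {i j : Fin (n + 1)} (h : j ≠ i) :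
    exteriorPower.ιMulti R (n + 1) (Fin.cons (v j) (v ∘ i.succAbove)) = 0 := by
  obtain ⟨k, rfl⟩ := Fin.exists_succAbove_eq h
  refine AlternatingMap.map_eq_zero_of_eq _ _ (i := 0) (j := k.succ) ?_ (Fin.succ_ne_zero k).symm
  rw [Fin.cons_zero, Fin.cons_succ]
  rfl

end Alg

/-- The full index set. -/
noncomputable def full (n : ℕ) : Fin 1 ≃ Set.powersetCard (Fin n) n :=
  Equiv.ofBijective (fun _ => Set.powersetCard.ofFinEmbEquiv (RelEmbedding.refl _)) (by
    rw [Fintype.bijective_iff_injective_and_card]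
    constructor
    · intro i j _
      exact Subsingleton.elim i j
    · rw [Fintype.card_fin, ← Nat.card_eq_fintype_card, Set.powersetCard.card, Nat.card_fin]
      simp)

theorem family_full {R M : Type*} [CommRing R] [AddCommGroup M] [Module R M] {n : ℕ} (v : Fin n → M)
    (i : Fin 1) :
    exteriorPower.ιMulti_family R n v (full n i) = exteriorPower.ιMulti R n v := by
  rw [exteriorPower.ιMulti_family]
  congr 1
  funext k
  simp [full]

variable {X : Scheme.{u}} {E L N : X.Modules}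

/-- The identification `Λ^1 E = E`. -/
noncomputable def phi1 (E : X.Modules) : Phi 1 E E := fun U =>
  (exteriorPower.oneEquiv Γ(X, U.1) (Sec E U.1)).symm

theorem phi1_comp (E : X.Modules) : PhiComp (phi1 E) := by
  intro U V h x
  rw [phi1, phi1, LinearEquiv.symm_symm, LinearEquiv.symm_symm]
  refine (congrArg _ (exteriorPower.oneEquiv_ιMulti x)).trans ?_
  exact (exteriorPower.oneEquiv_ιMulti (R := Γ(X, V.1)) (M := Sec E V.1)
    (fun j => res E h (x j))).symm

theorem phi1_apply (U : X.affineOpens) (m : Sec E U.1) :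
    phi1 E U m = exteriorPower.ιMulti Γ(X, U.1) 1 (fun _ => m) := by
  rw [phi1, LinearEquiv.symm_apply_eq]
  exact (exteriorPower.oneEquiv_ιMulti (R := Γ(X, U.1)) (M := Sec E U.1) (fun _ => m)).symm

theorem append_cons {M : Type*} {n : ℕ} (h : 1 + n = n + 1) (x : M) (w : Fin n → M) :
    Fin.append (fun _ : Fin 1 => x) w ∘ Fin.cast h.symm = Fin.cons x w := by
  funext k
  rw [Fin.append_left_eq_cons]
  simp only [Function.comp_apply]
  congr 1

/-- The wedge product `E ⊗ Λ^n E ⟶ Λ^{n+1} E`. -/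
theorem exists_wedge {n : ℕ} (φ : Phi n E L) (hφ : PhiComp φ) (ψ : Phi (n + 1) E N) (hψ : PhiComp ψ) :
    ∃ μ : CohB1.tensorMod E L ⟶ N, ∀ (U : X.affineOpens) (x : Sec E U.1) (w : Fin n → Sec E U.1),
      appS μ U.1 (tau E L U.1 (x ⊗ₜ[Γ(X, U.1)] (φ U).symm (exteriorPower.ιMulti _ n w))) =
        (ψ U).symm (exteriorPower.ιMulti _ (n + 1) (Fin.cons x w)) := by
  have hpq : 1 + n = n + 1 := Nat.add_comm 1 n
  obtain ⟨μ, hμ⟩ := exists_extMul hpq (𝟙 E) (phi1 E) (phi1_comp E) φ hφ ψ hψ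
  refine ⟨μ, fun U x w => ?_⟩
  rw [LinearEquiv.eq_symm_apply, hμ, TensorProduct.map_tmul]
  simp only [LinearEquiv.coe_coe, LinearEquiv.apply_symm_apply]
  rw [Sga67.ExtAlg.mu_tmul, phi1_apply, exteriorPower.map_apply_ιMulti, Sga67.ExtAlg.wedge_ιMulti]
  congr 1
  exact append_cons hpq x w

/-- The map `Λ^n E ⟶ Hom(E, Λ^{n+1} E)`. -/
theorem cS_curry (μ : CohB1.tensorMod E L ⟶ N) {U V : X.Opens} (hV : V ≤ U) (s : Sec L U) (m : Sec E V) :
    cS (appS (Sga2.PnHomAdj.curry μ) U s) hV m = appS μ V (tau E L V (m ⊗ₜ[Γ(X, V)] res L hV s)) := rfl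

theorem isLocBasis_unit_smul {M : X.Modules} {U : X.Opens} {κ : Type*} [Fintype κ] {b : κ → Sec M U}
    (hb : IsLocBasis b) (c : κ → Γ(X, U)ˣ) : IsLocBasis (fun i => (c i : Γ(X, U)) • b i) := by
  intro V h
  have h1 : (comb (fun i => (c i : Γ(X, U)) • b i) h : (κ → Γ(X, V)) → Sec M V) =
      (comb b h) ∘ (fun a i => a i * (Units.map (resO X h).toMonoidHom (c i) : Γ(X, V)ˣ)) := by
    funext a
    rw [Function.comp_apply, comb_apply, comb_apply]
    refine Finset.sum_congr rfl fun i _ => ?_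
    rw [res_smul, smul_smul]
    rfl
  rw [h1]
  refine (hb V h).comp ⟨fun a a' haa => funext fun i => ?_, fun a => ⟨fun i => a i *
    ((Units.map (resO X h).toMonoidHom (c i))⁻¹ : Γ(X, V)ˣ), funext fun i => ?_⟩⟩
  · exact (Units.mul_left_inj _).1 (congrFun haa i)
  · exact Units.inv_mul_cancel_right (a i) (Units.map (resO X h).toMonoidHom (c i))

theorem exists_affine_basis {n : ℕ} (hE : FlatMod.IsFinLocFreeOfRank n E) {U : X.Opens} {x : X} (hx : x ∈ U) :
    ∃ (W : X.affineOpens) (_ : W.1 ≤ U) (e : Fin n → Sec E W.1), x ∈ W.1 ∧ IsLocBasis e := by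
  obtain ⟨U₁, hx₁, hU₁⟩ := hE x
  obtain ⟨e₁, he₁⟩ := nonempty_restrict_iso_iff.mp hU₁
  obtain ⟨_, ⟨W, rfl⟩, hxW, hW⟩ := Opens.isBasis_iff_nbhd.mp (affineBasis X)
    (show x ∈ U ⊓ U₁ from ⟨hx, hx₁⟩)
  exact ⟨W, hW.trans inf_le_left, _, hxW, he₁.restrict (hW.trans inf_le_right)⟩

/-- `Λ^n E ≅ Hom(E, Λ^{n+1} E)` for `E` of rank `n + 1`. -/
theorem nonempty_iso {n : ℕ} (hE : FlatMod.IsFinLocFreeOfRank (n + 1) E) (hL : ExtPow.IsExtPow n E L)
    (hN : ExtPow.IsExtPow (n + 1) E N) : Nonempty (L ≅ homSheaf E N) := by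
  obtain ⟨φ, hφ⟩ := exists_phi hL
  obtain ⟨ψ, hψ⟩ := exists_phi hN
  obtain ⟨μ, hμ⟩ := exists_wedge φ hφ ψ hψ
  have : IsIso (Sga2.PnHomAdj.curry μ) := isIso_of_bijective _ (by
    intro x U hxU
    obtain ⟨W, hWU, e, hxW, he⟩ := exists_affine_basis hE hxU
    refine ⟨W.1, hWU, hxW, ?_⟩
    have h1 := (isLocBasis_extPow (U := W) φ hφ he).reindex (compl n)
    have h2 := (isLocBasis_extPow (U := W) ψ hψ he).reindex (full (n + 1))
    simp only [family_compl, family_full] at h1 h2
    have h3 := isLocBasis_unit_smul (isLocBasis_hsec (N := N) he h2)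
      (fun i => Units.map (Int.castRingHom Γ(X, W.1)).toMonoidHom (Equiv.Perm.sign (consPerm i)))
    refine bijective_of_locBasis _ h1 h3 (fun i => ?_) le_rfl
    apply (ev_bijective (N := N) he le_rfl).1
    funext j
    rw [map_smul, ev_hsec, ev_apply, cS_curry, res_self, res_self]
    refine (hμ W (e j) (e ∘ i.succAbove)).trans ?_
    by_cases h : j = i
    · subst h
      rw [cons_self, Pi.smul_apply, Pi.single_eq_same, Units.smul_def, map_zsmul]
      exact (Int.cast_smul_eq_zsmul Γ(X, W.1) _ _).symm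
    · rw [cons_ne e h, Pi.smul_apply, Pi.single_eq_of_ne h, smul_zero, map_zero])
  exact ⟨asIso (Sga2.PnHomAdj.curry μ)⟩

end Groth.Agent.Krr.H463.Wedge
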