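import Groth.Prelude.Def_KRR
import Groth.Agent.Krr.H463.Wedge
import Groth.Agent.Krr.H495.ExtExist
import Groth.Agent.Sga67.KvbRing

/-!
# The dual bundle in `K(X)`: `[E^∨] · λ^m [E] = λ^{m-1} [E]` for `E` of rank `m ≥ 1`

* `isFinLocFreeOfRank_dual`: the dual of a bundle of rank `m` is a bundle of rank `m`;
* `dual_mul_lam`: `[E^∨] · [det E] = [Λ^{m-1} E]` on every model of `K(X)`.
-/

set_option autoImplicit false
universe v u

open CategoryTheory CategoryTheory.Limits AlgebraicGeometry Opposite TopologicalSpace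

namespace Groth.Agent.Krr.H463.DualLam

open Groth.Agent.Sga67.Sec Groth.Agent.Sga67.LocBasis
open Groth.Agent.CohqB.HomSheaf (homSheaf)
open Groth.Agent.Krr.H463.HomBasis Groth.Agent.Krr.H463.HomTensor Groth.Agent.Krr.H463.Wedge

variable {X : Scheme.{u}} {E : X.Modules}

theorem isFinLocFreeOfRank_iff {n : ℕ} {M : X.Modules} : FlatMod.IsFinLocFreeOfRank n M ↔
    ∀ x : X, ∃ U : X.Opens, x ∈ U ∧ ∃ b : Fin n → Sec M U, IsLocBasis b := by
  simp only [FlatMod.IsFinLocFreeOfRank, nonempty_restrict_iso_iff]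

/-- The dual of a bundle of rank `m` is a bundle of rank `m`. -/
theorem isFinLocFreeOfRank_homSheaf {m : ℕ} (hE : FlatMod.IsFinLocFreeOfRank m E) :
    FlatMod.IsFinLocFreeOfRank m (homSheaf E (Coh.structureModule X)) := by
  rw [isFinLocFreeOfRank_iff] at hE ⊢
  intro x
  obtain ⟨U, hx, e, he⟩ := hE x
  exact ⟨U, hx, _, isLocBasis_hsec (N := Coh.structureModule X) he (isLocBasis_one' X U)⟩

/-- The dual as an object isomorphic to the explicit internal Hom. -/
noncomputable def dualIso (E : X.Modules) [DCoh.HasSheafHom E] :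
    (DCoh.sheafHom E).obj (Coh.structureModule X) ≅ homSheaf E (Coh.structureModule X) :=
  (Sga2.PnHomAdj.sheafHomIso E).app (Coh.structureModule X)

theorem isFinLocFreeOfRank_of_iso {n : ℕ} {M N : X.Modules} (e : M ≅ N)
    (hM : FlatMod.IsFinLocFreeOfRank n M) : FlatMod.IsFinLocFreeOfRank n N := by
  rw [isFinLocFreeOfRank_iff] at hM ⊢
  intro x
  obtain ⟨U, hx, b, hb⟩ := hM x
  exact ⟨U, hx, _, hb.of_iso e⟩

theorem isFinLocFreeOfRank_dual [DCoh.HasSheafHom E] {m : ℕ} (hE : FlatMod.IsFinLocFreeOfRank m E) :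
    FlatMod.IsFinLocFreeOfRank m ((DCoh.sheafHom E).obj (Coh.structureModule X)) :=
  isFinLocFreeOfRank_of_iso (dualIso E).symm (isFinLocFreeOfRank_homSheaf hE)

theorem isFinLocFree_of_rank {n : ℕ} {M : X.Modules} (hM : FlatMod.IsFinLocFreeOfRank n M) :
    FlatMod.IsFinLocFree M := fun x => by
  obtain ⟨U, hx, e⟩ := hM x
  exact ⟨U, n, hx, e⟩

/-- The top exterior power is invertible. -/
theorem isFinLocFreeOfRank_top {n : ℕ} {D : X.Modules} (hE : FlatMod.IsFinLocFreeOfRank n E)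
    (hD : ExtPow.IsExtPow n E D) : FlatMod.IsFinLocFreeOfRank 1 D := by
  rw [isFinLocFreeOfRank_iff]
  obtain ⟨ψ, hψ⟩ := Sga67.ExtSheaf.exists_phi hD
  intro x
  obtain ⟨W, -, e, hxW, he⟩ := exists_affine_basis hE (show x ∈ (⊤ : X.Opens) from trivial)
  exact ⟨W.1, hxW, _, (isLocBasis_extPow (U := W) ψ hψ he).reindex (full n)⟩

/-- `[E^∨] · λ^m [E] = λ^{m-1} [E]` for `E` of rank `m ≥ 1`. -/
theorem dual_mul_lam {K : Type v} [CommRing K] [LambdaRing.LambdaOps K] {P : LambdaRing.PosStructure K}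
    {φ : SGA6.Kvb X →+ K} (hK : KRR.IsModel X K P φ) [DCoh.HasSheafHom E] {m : ℕ} (hm : 1 ≤ m)
    (hE : FlatMod.IsFinLocFreeOfRank m E) :
    φ (KRR.cl X ((DCoh.sheafHom E).obj (Coh.structureModule X))) *
        LambdaRing.LambdaOps.lam m (φ (KRR.cl X E)) =
      LambdaRing.LambdaOps.lam (m - 1) (φ (KRR.cl X E)) := by
  obtain ⟨n, rfl⟩ : ∃ n, m = n + 1 := ⟨m - 1, by omega⟩
  have hE' : FlatMod.IsFinLocFree E := isFinLocFree_of_rank hE
  obtain ⟨L, hL, hLE⟩ := H495.ExtExist.exists_isExtPow n E hE'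
  obtain ⟨D, hD, hDE⟩ := H495.ExtExist.exists_isExtPow (n + 1) E hE'
  have hV : FlatMod.IsFinLocFree (homSheaf E (Coh.structureModule X)) :=
    isFinLocFree_of_rank (isFinLocFreeOfRank_homSheaf hE)
  have hV' : FlatMod.IsFinLocFree ((DCoh.sheafHom E).obj (Coh.structureModule X)) :=
    isFinLocFree_of_rank (isFinLocFreeOfRank_dual hE)
  obtain ⟨e1⟩ := Wedge.nonempty_iso hE hLE hDE
  obtain ⟨e2⟩ := HomTensor.nonempty_iso hE' (isFinLocFreeOfRank_top hE hDE)
  rw [Nat.add_sub_cancel, hK.map_lam (n + 1) E D hE' hD hDE, hK.map_lam n E L hE' hL hLE,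
    show KRR.cl X ((DCoh.sheafHom E).obj (Coh.structureModule X)) =
      KRR.cl X (homSheaf E (Coh.structureModule X)) from
      Sga67.KvbRing.c_iso (dualIso E) hV', hK.map_mul _ _ hV hD]
  congr 1
  exact (Sga67.KvbRing.c_iso (e1 ≪≫ e2.symm) hL).symm

end Groth.Agent.Krr.H463.DualLam
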