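import Groth.Prelude.Def_KRR
import Groth.Agent.Sga67.ResolGlob745
import Groth.Agent.Sga67.PullVan
import Groth.Agent.Sga67.TwistOver
import Groth.Agent.CohqA.HDIZero
import Groth.Agent.CohqA.HOpen

/-!
# Higher direct images of `O(d) ⊗ p^* E` under `p : P^n_S ⟶ S`

* `isZero_RpushAb`: `R^q p_* (O(d) ⊗ p^* E) = 0` whenever `H^q(P^n, O(d)) = 0`, `E` finite locally free.
* `isRegSheaf_twF`: `O(m) ⊗ p^* E` is regular for `m ≥ 0`.
* `subsingleton_HH_spec`: `H^q(P^n_A, O(d) ⊗ p^* E) = 0` for `q ≥ 1`, `d ≥ -n` (`P^n_A = KRR.PY n (Spec A)`).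
-/

set_option autoImplicit false
universe u
open CategoryTheory CategoryTheory.Limits AlgebraicGeometry TopologicalSpace

namespace Groth.Agent.Krr.H463.ChartVan

open Groth.Agent.Ega3A.PChart Groth.Agent.Sga67.TwistProj

/-- Vanishing of the cohomology of `O(d) ⊗ p^* E` on a chart. -/
theorem subsingleton_chart (n : ℕ) {A : Type u} [CommRing A] {S : Scheme.{u}}
    (h : Spec (CommRingCat.of A) ⟶ S) [IsOpenImmersion h] (d : ℤ) (q : ℕ)
    (h₀ : ¬ (q = 0 ∧ 0 ≤ d)) (hn : ¬ (q = n ∧ d ≤ -((n : ℤ) + 1)))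
    {E : S.Modules} (hE : FlatMod.IsFinLocFree E) :
    Subsingleton (Coh.HH (CohB1.ProjSpace n A)
      ((KRR.twF n S d ((Scheme.Modules.pullback (KRR.pr n S)).obj E)).restrict (chart n h)) q) := by
  refine Fga.HShift.subsingleton_of_iso (restrictTensorIso n h d _ ≪≫
    (tA n A d).mapIso (Sga67.PullVan.restrictPullIso n h E)).symm q ?_
  exact hh_pullback _ (PerfB.FlatPull.isFinLocFree_pullback h hE) d q (S0844.result A n d q h₀ hn)

/-- `R^q p_* (O(d) ⊗ p^* E) = 0` whenever `H^q(P^n, O(d)) = 0`. -/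
theorem isZero_RpushAb (n : ℕ) (S : Scheme.{u}) (d : ℤ) (q : ℕ)
    (h₀ : ¬ (q = 0 ∧ 0 ≤ d)) (hn : ¬ (q = n ∧ d ≤ -((n : ℤ) + 1)))
    {E : S.Modules} (hE : FlatMod.IsFinLocFree E) :
    IsZero ((Coh.RpushAb (KRR.pr n S) q).obj
      (Coh.toAb (KRR.twF n S d ((Scheme.Modules.pullback (KRR.pr n S)).obj E)))) := by
  refine CohqA.HDIZero.isZero_RpushAb (KRR.pr n S) _ q {V | IsAffineOpen V} S.isBasis_affineOpens
    fun V hV => ?_
  let h : Spec (CommRingCat.of Γ(S, V)) ⟶ S := (show IsAffineOpen V from hV).fromSpec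
  have hop : IsOpenImmersion h := inferInstanceAs (IsOpenImmersion (show IsAffineOpen V from hV).fromSpec)
  have hr : KRR.pr n S ⁻¹ᵁ V = chart n h ''ᵁ ⊤ := by
    rw [Sga67.ResolGlob745.image_top h, Scheme.Hom.image_top_eq_opensRange]
    congr 1
    exact (show IsAffineOpen V from hV).opensRange_fromSpec.symm
  exact (CohqA.HOpen.HHEquiv (chart n h)
    (KRR.twF n S d ((Scheme.Modules.pullback (KRR.pr n S)).obj E)) (KRR.pr n S ⁻¹ᵁ V) hr q).toEquiv.subsingleton_congr.2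
      (subsingleton_chart n h d q h₀ hn hE)

/-- `O(m) ⊗ p^* E` is regular for `m ≥ 0` and `E` finite locally free. -/
theorem isRegSheaf_twF (n : ℕ) (S : Scheme.{u}) (m : ℕ) {E : S.Modules} (hE : FlatMod.IsFinLocFree E) :
    KRR.IsRegSheaf n S (KRR.twF n S (m : ℤ) ((Scheme.Modules.pullback (KRR.pr n S)).obj E)) := by
  intro i hi
  obtain ⟨e⟩ := Sga67.TwistOver.nonempty_tw_tw n S (-(i : ℤ)) (m : ℤ)
    ((Scheme.Modules.pullback (KRR.pr n S)).obj E)
  refine IsZero.of_iso (isZero_RpushAb n S (-(i : ℤ) + m) i (by omega) (by omega) hE)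
    ((Coh.RpushAb (KRR.pr n S) i).mapIso ((Fga.HShift.shAb _).mapIso e))

/-- Vanishing of the cohomology of `O(d) ⊗ p^* E` on `P^n_A`. -/
theorem subsingleton_HH_spec (n : ℕ) (A : Type u) [CommRing A] (d : ℤ) (q : ℕ)
    (h₀ : ¬ (q = 0 ∧ 0 ≤ d)) (hn : ¬ (q = n ∧ d ≤ -((n : ℤ) + 1)))
    {E : (Spec (CommRingCat.of A)).Modules} (hE : FlatMod.IsFinLocFree E) :
    Subsingleton (Coh.HH (KRR.PY n (Spec (CommRingCat.of A)))
      (KRR.twF n (Spec (CommRingCat.of A)) d ((Scheme.Modules.pullback (KRR.pr n (Spec (CommRingCat.of A)))).obj E)) q) := by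
  have hr : (⊤ : (KRR.PY n (Spec (CommRingCat.of A))).Opens) =
      chart n (𝟙 (Spec (CommRingCat.of A))) ''ᵁ ⊤ := by
    rw [Sga67.ResolGlob745.image_top, Scheme.Hom.image_top_eq_opensRange, Scheme.Hom.opensRange_of_isIso]
    rfl
  exact ((CohqA.HOpen.HHTopEquiv (Y := KRR.PY n (Spec (CommRingCat.of A))) _ q).trans
    (CohqA.HOpen.HHEquiv (chart n (𝟙 (Spec (CommRingCat.of A)))) _ ⊤ hr q)).toEquiv.subsingleton_congr.2
      (subsingleton_chart n (𝟙 (Spec (CommRingCat.of A))) d q h₀ hn hE)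

end Groth.Agent.Krr.H463.ChartVan
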