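import Groth.Prelude.Def_KRR
import Groth.Prelude.Def_CurvBase
import Groth.Agent.S1524
import Groth.Agent.PerfA.CohSerre
import Groth.Agent.Sga67.CohBasic
import Groth.Agent.Cohder.KZBasic
import Groth.Agent.Krr.H447.Syz
import Groth.Agent.CurvesC.DegIso
import Groth.Agent.VarietyA.EulerAdd

/-!
# The Euler characteristic on `K(X)` for `X` proper over a field

`chi k X : SGA6.Kvb X →+ ℤ` with `chi (cl E) = χ(X, E)`; for a finite locally free resolution
`L → M` one has `Σ (-1)^k χ(L_k) = χ(M)`; invariance under closed immersions.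
-/

set_option autoImplicit false
universe u
open CategoryTheory CategoryTheory.Limits AlgebraicGeometry

namespace Groth.Agent.Krr.H463.ChiHom

section Chi

variable (k : Type u) [Field k] (X : Scheme.{u}) [X.Over (Spec (CommRingCat.of k))]
  [IsProper (X ↘ (Spec (CommRingCat.of k)))]

/-- The Euler characteristic on `K(X)`. -/
noncomputable def chi : SGA6.Kvb X →+ ℤ :=
  Cohder.KZBasic.liftSub (KRR.vbP X) (fun E => Curv2.euler k X E.1) fun S h₁ h₂ h₃ hS =>
    S1524.result k X S hS (PerfA.CohSerre.isCoh_of_isFinLocFree h₁)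
      (PerfA.CohSerre.isCoh_of_isFinLocFree h₂) (PerfA.CohSerre.isCoh_of_isFinLocFree h₃)

theorem chi_cl {E : X.Modules} (hE : FlatMod.IsFinLocFree E) :
    chi k X (KRR.cl X E) = Curv2.euler k X E :=
  Cohder.KZBasic.liftSub_cl (KRR.vbP X) _ _ hE

theorem euler_of_isZero {M : X.Modules} (hM : IsZero M) : Curv2.euler k X M = 0 := by
  have hS : (ShortComplex.mk (0 : M ⟶ M) (0 : M ⟶ M) (by simp)).ShortExact :=
    { exact := ShortComplex.exact_of_isZero_X₂ _ hM
      mono_f := ⟨fun _ _ _ => hM.eq_of_tgt _ _⟩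
      epi_g := ⟨fun _ _ _ => hM.eq_of_src _ _⟩ }
  have hc : Coh.IsCoh M := PerfA.CohSerre.isCoh_of_isZero hM
  have := S1524.result k X _ hS hc hc hc
  simpa using this

theorem chi_of_isLFRes {M : X.Modules} {n : ℕ} {L : ChainComplex X.Modules ℕ}
    {π : L ⟶ (ChainComplex.single₀ X.Modules).obj M} (h : KRR.IsLFRes M n L π) :
    chi k X (∑ j ∈ Finset.range (n + 1), (-1 : ℤ) ^ j • KRR.cl X (L.X j)) = Curv2.euler k X M := by
  refine (H447.Syz.isLFRes_induction
    (P := fun M c => Coh.IsCoh M ∧ chi k X c = Curv2.euler k X M) ?_ ?_ ?_ h).2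
  · rintro M N c e ⟨h1, h2⟩
    exact ⟨Sga67.CohBasic.isCoh_of_iso e h1, h2.trans (VarietyA.EulerAdd.euler_congr k e)⟩
  · intro M hM
    exact ⟨PerfA.CohSerre.isCoh_of_isZero hM, by rw [map_zero, euler_of_isZero k X hM]⟩
  · rintro S hS hE c ⟨h1, h2⟩
    have h3 : Coh.IsCoh S.X₂ := PerfA.CohSerre.isCoh_of_isFinLocFree hE
    have h4 : Coh.IsCoh S.X₃ := Sga67.CohBasic.isCoh_X₃ hS h1.1 h3
    refine ⟨h4, ?_⟩
    rw [map_sub, chi_cl k X hE, h2, S1524.result k X S hS h1 h3 h4]
    ring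

end Chi

section Push

variable (k : Type u) [Field k] {X P : Scheme.{u}} [X.Over (Spec (CommRingCat.of k))]
  [P.Over (Spec (CommRingCat.of k))] [IsProper (P ↘ (Spec (CommRingCat.of k)))]

theorem chi_push (i : X ⟶ P) [IsClosedImmersion i]
    (hi : i ≫ (P ↘ Spec (CommRingCat.of k)) = X ↘ Spec (CommRingCat.of k)) (E : X.Modules)
    {n : ℕ} {L : ChainComplex P.Modules ℕ}
    {π : L ⟶ (ChainComplex.single₀ P.Modules).obj ((Scheme.Modules.pushforward i).obj E)}
    (h : KRR.IsLFRes ((Scheme.Modules.pushforward i).obj E) n L π) :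
    chi k P (∑ j ∈ Finset.range (n + 1), (-1 : ℤ) ^ j • KRR.cl P (L.X j)) = Curv2.euler k X E := by
  rw [chi_of_isLFRes k P h, CurvesC.DegIso.euler_push k i hi]

end Push

end Groth.Agent.Krr.H463.ChiHom
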