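import Groth.Prelude.Def_KRR
import Groth.Agent.S3197
import Groth.Agent.Sga67.FlatPre
import Groth.Agent.Sga67.TwistOver
import Groth.Agent.Sga67.K0Loc
import Groth.Agent.Sga5.ProjSmooth
import Groth.Agent.PerfB.FlatPull
import Groth.Agent.Cohder.KZBasic

/-!
# `K(P^n_S)` is generated by the classes of `O(i) ⊗ p^* E`, `0 ≤ i ≤ n` (from S3197)
-/

set_option autoImplicit false
universe u
open CategoryTheory CategoryTheory.Limits AlgebraicGeometry
attribute [local instance] HasDerivedCategory.standard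

namespace Groth.Agent.Krr.H463.GenPn

open Groth.Agent.Sga67.TwistOver

theorem flat_pr (n : ℕ) (S : Scheme.{u}) : Flat (KRR.pr n S) := by
  have h0 := Groth.Agent.Sga5.ProjSmooth.smooth_toSpec n (ULift.{u} ℤ)
  have h1 : Smooth (CohB1.ProjSpace.toSpec n (ULift.{u} ℤ)) := SmoothOfRelativeDimension.smooth n _
  have h2 : Smooth (CohB1.ProjSpaceOver.toBase n S) :=
    MorphismProperty.pullback_snd (P := @Smooth) _ _ h1
  infer_instance

/-- Twists of pulled back bundles are bundles. -/
theorem isFinLocFree_twF (n : ℕ) (S : Scheme.{u}) (d : ℤ) {E : S.Modules} (hE : FlatMod.IsFinLocFree E) :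
    FlatMod.IsFinLocFree (KRR.twF n S d ((Scheme.Modules.pullback (KRR.pr n S)).obj E)) :=
  isFinLocFree_tw n S d _ (PerfB.FlatPull.isFinLocFree_pullback _ hE)

/-- Two additive maps out of `K(P^n_S)` which agree on the classes of `O(i) ⊗ p^* E`, `0 ≤ i ≤ n`, are
equal. -/
theorem hom_ext {G : Type*} [AddCommGroup G] (n : ℕ) (S : Scheme.{u}) [CompactSpace S]
    {f g : SGA6.Kvb (KRR.PY n S) →+ G}
    (h : ∀ i : ℕ, i ≤ n → ∀ E : S.Modules, FlatMod.IsFinLocFree E →
      f (KRR.cl (KRR.PY n S) (KRR.twF n S (i : ℤ) ((Scheme.Modules.pullback (KRR.pr n S)).obj E))) =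
        g (KRR.cl (KRR.PY n S) (KRR.twF n S (i : ℤ) ((Scheme.Modules.pullback (KRR.pr n S)).obj E)))) :
    f = g := by
  have hflat : Flat (CohB1.ProjSpaceOver.toBase n S) := flat_pr n S
  have i1 : PreservesFiniteLimits (Scheme.Modules.pullback (CohB1.ProjSpaceOver.toBase n S)) :=
    Sga67.FlatPre.preservesFiniteLimits_pullback _
  have i2 : ∀ i : ℕ, PreservesFiniteLimits
      ((DCoh.tensorBi (X := CohB1.ProjSpaceOver n S)).obj (Twist.twistOver n S (i : ℤ))) :=
    fun i => preservesFiniteLimits_tw n S i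
  have i3 : ∀ i : ℕ, PreservesFiniteColimits
      ((DCoh.tensorBi (X := CohB1.ProjSpaceOver n S)).obj (Twist.twistOver n S (i : ℤ))) :=
    fun i => preservesFiniteColimits_tw n S i
  have hf : ∀ M : S.Modules, FlatMod.IsFinLocFree M →
      FlatMod.IsFinLocFree ((Scheme.Modules.pullback (CohB1.ProjSpaceOver.toBase n S)).obj M) :=
    fun M hM => PerfB.FlatPull.isFinLocFree_pullback _ hM
  have ht : ∀ (i : ℕ) (M : (CohB1.ProjSpaceOver n S).Modules), FlatMod.IsFinLocFree M →
      FlatMod.IsFinLocFree (((DCoh.tensorBi (X := CohB1.ProjSpaceOver n S)).obj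
        (Twist.twistOver n S (i : ℤ))).obj M) := fun i M hM => isFinLocFree_tw n S i M hM
  have hb := S3197.result S n hf ht
  have key : ∀ i : Fin (n + 1),
      (f.comp (SGA6.mapSub ((DCoh.tensorBi (X := CohB1.ProjSpaceOver n S)).obj
        (Twist.twistOver n S ((i : ℕ) : ℤ))) (fun M : (CohB1.ProjSpaceOver n S).Modules => FlatMod.IsFinLocFree M)
        (fun M : (CohB1.ProjSpaceOver n S).Modules => FlatMod.IsFinLocFree M) (ht i))).comp
        (SGA6.mapSub (Scheme.Modules.pullback (CohB1.ProjSpaceOver.toBase n S))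
          (fun M : (S).Modules => FlatMod.IsFinLocFree M)
          (fun M : (CohB1.ProjSpaceOver n S).Modules => FlatMod.IsFinLocFree M) hf) =
      (g.comp (SGA6.mapSub ((DCoh.tensorBi (X := CohB1.ProjSpaceOver n S)).obj
        (Twist.twistOver n S ((i : ℕ) : ℤ))) (fun M : (CohB1.ProjSpaceOver n S).Modules => FlatMod.IsFinLocFree M)
        (fun M : (CohB1.ProjSpaceOver n S).Modules => FlatMod.IsFinLocFree M) (ht i))).comp
        (SGA6.mapSub (Scheme.Modules.pullback (CohB1.ProjSpaceOver.toBase n S))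
          (fun M : (S).Modules => FlatMod.IsFinLocFree M)
          (fun M : (CohB1.ProjSpaceOver n S).Modules => FlatMod.IsFinLocFree M) hf) := by
    intro i
    apply Cohder.KZBasic.hom_ext_sub
    intro E hE
    rw [AddMonoidHom.comp_apply, AddMonoidHom.comp_apply, AddMonoidHom.comp_apply, AddMonoidHom.comp_apply,
      Sga67.K0Loc.clSub_eq_mk _ hE, Sga67.K0Loc.mapSub_mk, Sga67.K0Loc.mapSub_mk]
    have h1 := h i (by omega) E hE
    rw [KRR.cl, Sga67.K0Loc.clSub_eq_mk _ (isFinLocFree_twF n S i hE)] at h1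
    exact h1
  refine AddMonoidHom.ext fun x => ?_
  obtain ⟨y, rfl⟩ := hb.2 x
  dsimp only
  rw [map_sum, map_sum]
  exact Finset.sum_congr rfl fun i _ => DFunLike.congr_fun (key i) (y i)

end Groth.Agent.Krr.H463.GenPn
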