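import Groth.Agent.Krr.H463.ChiHom
import Groth.Agent.S0458
import Groth.Agent.Sga67.LocBasis
import Groth.Agent.Sga67.PushTwist
import Groth.Agent.CurvesB.HZero
import Mathlib.RingTheory.KrullDimension.Field

/-!
# Finite locally free modules over the spectrum of a field: rank and Euler characteristic
-/

set_option autoImplicit false
universe v u
open CategoryTheory CategoryTheory.Limits AlgebraicGeometry

namespace Groth.Agent.Krr.H463.SpecField

variable (k : Type u) [Field k]

theorem topologicalKrullDim_spec : topologicalKrullDim ↥(Spec (CommRingCat.of k)) ≤ ((0 : ℕ) : WithBot ℕ∞) := by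
  have h1 : topologicalKrullDim ↥(Spec (CommRingCat.of k)) = ringKrullDim k :=
    PrimeSpectrum.topologicalKrullDim_eq_ringKrullDim k
  rw [h1, ringKrullDim_eq_zero_of_field]
  simp

/-- Grothendieck vanishing. -/
theorem subsingleton_HH_of_dim (X : Scheme.{u}) [IsNoetherian X] (d : ℕ)
    (hd : topologicalKrullDim ↥X ≤ (d : WithBot ℕ∞)) (M : X.Modules) (i : ℕ) (hi : d < i) :
    Subsingleton (Coh.HH X M i) := by
  have : TopologicalSpace.NoetherianSpace (X.toTopCat) :=
    inferInstanceAs (TopologicalSpace.NoetherianSpace X)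
  exact S0458.result (X := X.toTopCat) d hd (Coh.toAb M) i hi

theorem subsingleton_HH (M : (Spec (CommRingCat.of k)).Modules) (q : ℕ) (hq : 1 ≤ q) :
    Subsingleton (Coh.HH (Spec (CommRingCat.of k)) M q) :=
  subsingleton_HH_of_dim _ 0 (topologicalKrullDim_spec k) M q (by omega)

theorem euler_eq (M : (Spec (CommRingCat.of k)).Modules) :
    Curv2.euler k (Spec (CommRingCat.of k)) M =
      (Module.finrank k (Coh.HH (Spec (CommRingCat.of k)) M 0) : ℤ) := by
  rw [VarietyA.EulerAdd.euler_eq_sum k M 1 (fun q hq => subsingleton_HH k M q hq)]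
  simp

theorem finrank_unit :
    Module.finrank k (Coh.HH (Spec (CommRingCat.of k)) (Coh.structureModule (Spec (CommRingCat.of k))) 0) = 1 := by
  let _ := CurvesC.CurveNum.topMod k (Spec (CommRingCat.of k))
  rw [(CurvesC.CurveNum.hZeroTop k (Spec (CommRingCat.of k))).finrank_eq]
  let φ : k →+* Coh.Γtop (Spec (CommRingCat.of k)) :=
    Coh.toGlobal (Spec (CommRingCat.of k) ↘ Spec (CommRingCat.of k))
  have hφ : Function.Bijective φ := by
    have h1 : φ = (Scheme.ΓSpecIso (CommRingCat.of k)).inv.hom := by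
      change ((𝟙 (Spec (CommRingCat.of k)) : Spec (CommRingCat.of k) ⟶ _).appTop).hom.comp _ = _
      rw [Scheme.Hom.id_appTop]
      rfl
    rw [h1]
    exact ConcreteCategory.bijective_of_isIso (Scheme.ΓSpecIso (CommRingCat.of k)).inv
  let e : k ≃ₗ[k] Coh.Γtop (Spec (CommRingCat.of k)) :=
    LinearEquiv.ofBijective
      { toFun := φ
        map_add' := map_add φ
        map_smul' := fun a b => map_mul φ a b } hφ
  rw [← e.finrank_eq, Module.finrank_self]

theorem exists_rank {N : (Spec (CommRingCat.of k)).Modules} (hN : FlatMod.IsFinLocFree N) :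
    ∃ m : ℕ, FlatMod.IsFinLocFreeOfRank m N ∧ Nonempty (N ≅ FlatMod.freeMod (Spec (CommRingCat.of k)) m) := by
  have hs : Subsingleton ↥(Spec (CommRingCat.of k)) := inferInstanceAs (Subsingleton (PrimeSpectrum k))
  let x : ↥(Spec (CommRingCat.of k)) := (⊥ : PrimeSpectrum k)
  obtain ⟨U, m, hx, e⟩ := hN x
  have hm : FlatMod.IsFinLocFreeOfRank m N := fun y => ⟨U, by rwa [Subsingleton.elim y x], e⟩
  have hU : U = ⊤ := by
    ext z
    simp [Subsingleton.elim z x, hx]
  subst hU
  obtain ⟨c, hc⟩ := Sga67.LocBasis.nonempty_restrict_iso_iff.1 e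
  exact ⟨m, hm, Sga67.LocBasis.nonempty_iso_free hc⟩

theorem euler_of_iso_free {N : (Spec (CommRingCat.of k)).Modules} (m : ℕ)
    (e : Nonempty (N ≅ FlatMod.freeMod (Spec (CommRingCat.of k)) m)) :
    Curv2.euler k (Spec (CommRingCat.of k)) N = m := by
  obtain ⟨e⟩ := e
  have hp : IsProper (Spec (CommRingCat.of k) ↘ Spec (CommRingCat.of k)) :=
    inferInstanceAs (IsProper (𝟙 (Spec (CommRingCat.of k))))
  rw [VarietyA.EulerAdd.euler_congr k e, ← ChiHom.chi_cl k _ (Sga67.PushTwist.isFinLocFree_freeMod _ m)]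
  have h := Sga67.PushTwist.c_freeMod (S := Spec (CommRingCat.of k)) m
  change KRR.cl _ (FlatMod.freeMod _ m) = m • KRR.cl _ (Coh.structureModule _) at h
  rw [h, map_nsmul, ChiHom.chi_cl k _ Sga67.TensorOps.isFinLocFree_structureModule, euler_eq, finrank_unit]
  simp

/-- The augmentation of the class of a finite locally free module on `Spec k` is its Euler
characteristic. -/
theorem aug_eq_euler {K : Type v} [CommRing K] [LambdaRing.LambdaOps K] (P : LambdaRing.PosStructure K)
    (φ : SGA6.Kvb (Spec (CommRingCat.of k)) →+ K) (hK : KRR.IsModel (Spec (CommRingCat.of k)) K P φ)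
    {N : (Spec (CommRingCat.of k)).Modules} (hN : FlatMod.IsFinLocFree N) :
    P.aug (φ (KRR.cl _ N)) = Curv2.euler k (Spec (CommRingCat.of k)) N := by
  obtain ⟨m, hm, e⟩ := exists_rank k hN
  rw [hK.aug_cl m N hm, euler_of_iso_free k m e]

section Push

variable {P : Scheme.{u}} [P.Over (Spec (CommRingCat.of k))]

theorem finrank_H0_push (F : P.Modules) :
    Module.finrank k (Coh.HH (Spec (CommRingCat.of k))
      ((Scheme.Modules.pushforward (P ↘ Spec (CommRingCat.of k))).obj F) 0) =
      Module.finrank k (Coh.HH P F 0) := by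
  let p := P ↘ Spec (CommRingCat.of k)
  let N := (Scheme.Modules.pushforward p).obj F
  let e1 : Coh.HH (Spec (CommRingCat.of k)) N 0 ≃+ Γ(N, ⊤) := CurvesB.HZero.equivAdd N
  let e2 : Coh.HH P F 0 ≃+ Γ(F, ⊤) := CurvesB.HZero.equivAdd F
  let e : Coh.HH (Spec (CommRingCat.of k)) N 0 ≃+ Coh.HH P F 0 := e1.trans e2.symm
  have he : ∀ (t : k) (x : Coh.HH (Spec (CommRingCat.of k)) N 0), e (t • x) = t • e x := by
    intro t x
    apply e2.injective
    have h1 : e2 (e (t • x)) = e1 (t • x) := e2.apply_symm_apply _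
    have h2 : e2 (e x) = e1 x := e2.apply_symm_apply _
    rw [h1]
    refine (CurvesB.HZero.equivAdd_smul_over N t x).trans ?_
    refine Eq.trans ?_ (CurvesB.HZero.equivAdd_smul_over F t (e x)).symm
    change CurvesB.HZero.gl k (Spec (CommRingCat.of k)) t • e1 x = CurvesB.HZero.gl k P t • e2 (e x)
    rw [h2]
    have h3 : CurvesB.HZero.gl k P t =
        CurvesC.CurveNum.topMap p (CurvesB.HZero.gl k (Spec (CommRingCat.of k)) t) := by
      have := CurvesC.CurveNum.toGlobal_comp (A := k) p (𝟙 _) t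
      rw [Category.comp_id] at this
      exact this
    rw [h3]
    rfl
  exact (LinearEquiv.finrank_eq { e with map_smul' := he })

theorem euler_push (F : P.Modules) (hF : ∀ q : ℕ, 1 ≤ q → Subsingleton (Coh.HH P F q)) :
    Curv2.euler k (Spec (CommRingCat.of k))
      ((Scheme.Modules.pushforward (P ↘ Spec (CommRingCat.of k))).obj F) = Curv2.euler k P F := by
  rw [euler_eq, finrank_H0_push, VarietyA.EulerAdd.euler_eq_sum k F 1 hF]
  simp

end Push

end Groth.Agent.Krr.H463.SpecField
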