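import Groth.Agent.Krr.H463.ChartVan
import Groth.Agent.Krr.H463.GenPn
import Groth.Agent.Krr.H463.SpecField
import Groth.Agent.Dix.ProjProper

/-!
# The push-forward `K(P^n_k) ⟶ K(Spec k)` is the Euler characteristic
-/

set_option autoImplicit false
universe v w u
open CategoryTheory CategoryTheory.Limits AlgebraicGeometry

namespace Groth.Agent.Krr.H463.ChiPn

variable (k : Type u) [Field k] (n : ℕ)

/-- `P^n_k` over `Spec k`. -/
noncomputable abbrev overPn : (KRR.PY n (Spec (CommRingCat.of k))).Over (Spec (CommRingCat.of k)) :=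
  ⟨KRR.pr n (Spec (CommRingCat.of k))⟩

attribute [local instance] overPn

theorem isProper_pr (S : Scheme.{u}) : IsProper (KRR.pr n S) :=
  Dix.ProjProper.isProper_toBase n S

/-- `ε(p_K y) = χ(P^n_k, y)` for `y ∈ K(P^n_k)`. -/
theorem aug_push {KP : Type v} [CommRing KP] {KY : Type w} [CommRing KY] [LambdaRing.LambdaOps KY]
    (PY : LambdaRing.PosStructure KY) (φY : SGA6.Kvb (Spec (CommRingCat.of k)) →+ KY)
    (hKY : KRR.IsModel (Spec (CommRingCat.of k)) KY PY φY)
    (φP : SGA6.Kvb (KRR.PY n (Spec (CommRingCat.of k))) →+ KP)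
    (b : KP →+ KY) (hb : KRR.IsPushPr n (Spec (CommRingCat.of k)) φP φY b)
    (y : SGA6.Kvb (KRR.PY n (Spec (CommRingCat.of k)))) :
    haveI : IsProper (KRR.PY n (Spec (CommRingCat.of k)) ↘ Spec (CommRingCat.of k)) := isProper_pr n _
    PY.aug (b (φP y)) = ChiHom.chi k (KRR.PY n (Spec (CommRingCat.of k))) y := by
  have hp : IsProper (KRR.PY n (Spec (CommRingCat.of k)) ↘ Spec (CommRingCat.of k)) := isProper_pr n _
  have key : (PY.aug.toAddMonoidHom.comp (b.comp φP)) = ChiHom.chi k (KRR.PY n (Spec (CommRingCat.of k))) := by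
    refine GenPn.hom_ext n (Spec (CommRingCat.of k)) fun i _ E hE => ?_
    have hF := GenPn.isFinLocFree_twF n (Spec (CommRingCat.of k)) (i : ℤ) hE
    change PY.aug (b (φP _)) = _
    refine (congrArg PY.aug (hb _ hF (ChartVan.isRegSheaf_twF n _ i hE))).trans ?_
    refine (SpecField.aug_eq_euler k PY φY hKY
      (Sga67.PushTwist.isFinLocFree_push_tw_pull n _ i hE)).trans ?_
    refine (SpecField.euler_push k _ fun q hq =>
      ChartVan.subsingleton_HH_spec n k (i : ℤ) q (by omega) (by omega) hE).trans ?_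
    exact (ChiHom.chi_cl k _ hF).symm
  exact DFunLike.congr_fun key y

end Groth.Agent.Krr.H463.ChiPn
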