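import Groth.Agent.Krr.H463.ChiPn
import Groth.Agent.Krr.H498.PushRes
import Groth.Agent.Krr.H473.QProj
import Groth.Agent.Krr.H482.PnSect

/-!
# `ε(f_K [E]) = χ(X, E)` for `f = p ∘ i : X ⟶ P^n_k ⟶ Spec k`
-/

set_option autoImplicit false
universe v w w' u
open CategoryTheory CategoryTheory.Limits AlgebraicGeometry

namespace Groth.Agent.Krr.H463.EulerX

/-- `P^n_Y` is Noetherian. -/
theorem isNoetherian_PY (n : ℕ) (Y : Scheme.{u}) [IsNoetherian Y] : IsNoetherian (KRR.PY n Y) := by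
  have := ChiPn.isProper_pr n Y
  have h1 : IsLocallyNoetherian (KRR.PY n Y) := LocallyOfFiniteType.isLocallyNoetherian (KRR.pr n Y)
  have h2 : CompactSpace (KRR.PY n Y) := QuasiCompact.compactSpace_of_compactSpace (KRR.pr n Y)
  exact { }

/-- The identity is quasi-projective. -/
theorem isQProjOver_id (Y : Scheme.{u}) (n : ℕ) : KRR.IsQProjOver (𝟙 Y) := by
  refine ⟨n, H482.PnSect.sect n Y, ?_, H482.PnSect.sect_toBase n Y⟩
  have h1 : IsProper (CohB1.ProjSpaceOver.toBase n Y) := ChiPn.isProper_pr n Y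
  have h2 : IsClosedImmersion (H482.PnSect.sect n Y ≫ CohB1.ProjSpaceOver.toBase n Y) := by
    rw [H482.PnSect.sect_toBase]
    infer_instance
  have h3 : IsClosedImmersion (H482.PnSect.sect n Y) := IsClosedImmersion.of_comp _ (CohB1.ProjSpaceOver.toBase n Y)
  infer_instance

/-- `P^n_Y` has enough locally free modules, `Y` affine Noetherian. -/
theorem hasEnoughLocFree_PY (n : ℕ) (Y : Scheme.{u}) [IsAffine Y] [IsNoetherian Y] :
    KRR.HasEnoughLocFree (KRR.PY n Y) := by
  have := isNoetherian_PY n Y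
  exact H473.QProj.hasEnoughLocFree (q := KRR.pr n Y) ⟨n, 𝟙 _, inferInstance, Category.id_comp _⟩

variable (k : Type u) [Field k] (n : ℕ)

attribute [local instance] ChiPn.overPn

/-- `ε(p_K i_K [E]) = χ(X, E)`. -/
theorem aug_push_push {X : Scheme.{u}} [X.Over (Spec (CommRingCat.of k))]
    (i : X ⟶ KRR.PY n (Spec (CommRingCat.of k))) (hi : Mor2.IsRegularClosedImmersion i)
    (hfac : i ≫ KRR.pr n (Spec (CommRingCat.of k)) = X ↘ Spec (CommRingCat.of k))
    {KX : Type v} [CommRing KX] (φX : SGA6.Kvb X →+ KX)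
    {KP : Type w} [CommRing KP] (φP : SGA6.Kvb (KRR.PY n (Spec (CommRingCat.of k))) →+ KP)
    {KY : Type w'} [CommRing KY] [LambdaRing.LambdaOps KY] (PY : LambdaRing.PosStructure KY)
    (φY : SGA6.Kvb (Spec (CommRingCat.of k)) →+ KY)
    (hKY : KRR.IsModel (Spec (CommRingCat.of k)) KY PY φY)
    (a : KX →+ KP) (ha : KRR.IsPushCl i φX φP a)
    (b : KP →+ KY) (hb : KRR.IsPushPr n (Spec (CommRingCat.of k)) φP φY b)
    {E : X.Modules} (hE : FlatMod.IsFinLocFree E) :
    PY.aug (b (a (φX (KRR.cl X E)))) = Curv2.euler k X E := by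
  have : IsNoetherian (KRR.PY n (Spec (CommRingCat.of k))) := isNoetherian_PY n _
  have hp : IsProper (KRR.PY n (Spec (CommRingCat.of k)) ↘ Spec (CommRingCat.of k)) := ChiPn.isProper_pr n _
  have : IsClosedImmersion i := hi.1
  obtain ⟨m, L, π, hL⟩ := H498.PushRes.hasLFRes_pushforward
    (hasEnoughLocFree_PY n (Spec (CommRingCat.of k))) i hi hE
  rw [← ChiHom.chi_push k i hfac E hL, ha E hE m L π hL, ← ChiPn.aug_push k n PY φY hKY φP b hb]
  congr 2
  rw [map_sum]
  exact Finset.sum_congr rfl fun j _ => by rw [map_zsmul]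

/-- The Euler characteristic as a finite sum up to the dimension. -/
theorem euler_eq_sum {X : Scheme.{u}} [X.Over (Spec (CommRingCat.of k))] [IsNoetherian X] (d : ℕ)
    (hd : topologicalKrullDim ↥X ≤ (d : WithBot ℕ∞)) (E : X.Modules) :
    Curv2.euler k X E = ∑ q ∈ Finset.range (d + 1), (-1 : ℤ) ^ q * (Module.finrank k (Coh.HH X E q) : ℤ) := by
  rw [VarietyA.EulerAdd.euler_eq_sum k E (d + 1) fun q hq =>
    SpecField.subsingleton_HH_of_dim X d hd E q (by omega)]

end Groth.Agent.Krr.H463.EulerX
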