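import Groth.Prelude.Def_KGr
import Groth.Agent.Krr.H463.EulerX

/-!
# Hirzebruch-Riemann-Roch (S3764) from Grothendieck-Riemann-Roch (S3763) over `Spec k`
-/

set_option autoImplicit false
universe v u
open CategoryTheory CategoryTheory.Limits AlgebraicGeometry

namespace Groth.Agent.Krr.H463.CondHRR

/-- In dimension zero the Chern character is the augmentation. -/
theorem chK_zero {K : Type v} [CommRing K] [LambdaRing.LambdaOps K] (P : LambdaRing.PosStructure K) (x : K) :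
    KGr.chK P 0 x = algebraMap ℚ (KGr.Gr P) (P.aug x : ℚ) := by
  have h : KGr.chPoly 0 = 0 := by
    unfold KGr.chPoly
    rw [AlgEquiv.symm_apply_eq, map_zero]
    apply Subtype.ext
    simp
  rw [KGr.chK, h, map_zero, add_zero, Nat.cast_zero, sub_zero]

variable (k : Type u) [Field k] (n : ℕ)

theorem of_grr {X : Scheme.{u}} [X.Over (Spec (CommRingCat.of k))]
    (dX : ℕ) (hdX : topologicalKrullDim ↥X ≤ (dX : WithBot ℕ∞))
    (i : X ⟶ KRR.PY n (Spec (CommRingCat.of k))) (hi : Mor2.IsRegularClosedImmersion i)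
    (hfac : i ≫ KRR.pr n (Spec (CommRingCat.of k)) = X ↘ Spec (CommRingCat.of k))
    {KX : Type v} [CommRing KX] [LambdaRing.LambdaOps KX] (PX : LambdaRing.PosStructure KX)
    (φX : SGA6.Kvb X →+ KX)
    {KP : Type v} [CommRing KP] (φP : SGA6.Kvb (KRR.PY n (Spec (CommRingCat.of k))) →+ KP)
    {KY : Type v} [CommRing KY] [LambdaRing.LambdaOps KY] (PY : LambdaRing.PosStructure KY)
    (φY : SGA6.Kvb (Spec (CommRingCat.of k)) →+ KY) (hKY : KRR.IsModel (Spec (CommRingCat.of k)) KY PY φY)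
    (a : KX →+ KP) (ha : KRR.IsPushCl i φX φP a) (b : KP →+ KY)
    (hb : KRR.IsPushPr n (Spec (CommRingCat.of k)) φP φY b) (T : KX) (e : ℤ)
    (hgrr : ∃ fG : KGr.Gr PX →+ KGr.Gr PY, KGr.IsGrPush PX PY (b.comp a) e fG ∧
      ∀ x : KX, KGr.chK PY 0 (b (a x)) = fG (KGr.tdK PX dX T * KGr.chK PX dX x)) :
    ∃ fG : KGr.Gr PX →+ KGr.Gr PY, KGr.IsGrPush PX PY (b.comp a) e fG ∧
      ∀ E : X.Modules, FlatMod.IsFinLocFree E →
      fG (KGr.tdK PX dX T * KGr.chK PX dX (φX (KRR.cl X E))) =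
      algebraMap ℚ (KGr.Gr PY)
        (∑ q ∈ Finset.range (dX + 1), (-1 : ℚ) ^ q * (Module.finrank k (Coh.HH X E q) : ℚ)) := by
  obtain ⟨fG, h1, h2⟩ := hgrr
  refine ⟨fG, h1, fun E hE => ?_⟩
  have : IsNoetherian (KRR.PY n (Spec (CommRingCat.of k))) := EulerX.isNoetherian_PY n _
  have : IsClosedImmersion i := hi.1
  have : IsLocallyNoetherian X := LocallyOfFiniteType.isLocallyNoetherian i
  have : CompactSpace X := QuasiCompact.compactSpace_of_compactSpace i
  have : IsNoetherian X := { }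
  rw [← h2, chK_zero, EulerX.aug_push_push k n i hi hfac φX φP PY φY hKY a ha b hb hE,
    EulerX.euler_eq_sum k dX hdX E]
  congr 1
  push_cast
  rfl

end Groth.Agent.Krr.H463.CondHRR
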