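import Groth.Agent.Krr.H487.ExtPull
import Groth.Agent.Sga67.TensorOps
import Groth.Agent.Sga2.PnHomAdj
import Groth.Agent.CohqB.HomSheaf

/-!
# Local bases of the internal Hom and the comparison `Hom(E, O) ⊗ D ≅ Hom(E, D)`
-/

set_option autoImplicit false
universe u

open CategoryTheory CategoryTheory.Limits AlgebraicGeometry Opposite TopologicalSpace
open scoped TensorProduct

namespace Groth.Agent.Krr.H463.HomBasis

open Groth.Agent.Sga67.Sec Groth.Agent.Sga67.LocBasis
open Groth.Agent.CohqB.HomSheaf (homSheaf comp mkSec comp_map sec_ext comp_self_smul comp_mkSec)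

variable {X : Scheme.{u}} {E N : X.Modules}

/-- The components of a section of the internal Hom. -/
noncomputable def cS {U : X.Opens} (s : Sec (homSheaf E N) U) {V : X.Opens} (hV : V ≤ U) :
    Sec E V →ₗ[Γ(X, V)] Sec N V := comp s V hV

theorem cS_ext {U : X.Opens} {s t : Sec (homSheaf E N) U}
    (h : ∀ (V : X.Opens) (hV : V ≤ U) (m : Sec E V), cS s hV m = cS t hV m) : s = t :=
  sec_ext fun V hV m => h V hV m

theorem cS_res {U V W : X.Opens} (hV : V ≤ U) (hW : W ≤ V) (s : Sec (homSheaf E N) U) (m : Sec E W) :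
    cS (res (homSheaf E N) hV s) hW m = cS s (hW.trans hV) m := rfl

theorem res_cS {U V W : X.Opens} (hV : V ≤ U) (hW : W ≤ V) (s : Sec (homSheaf E N) U) (m : Sec E V) :
    cS s (hW.trans hV) (res E hW m) = res N hW (cS s hV m) :=
  comp_map s hV hW m

theorem cS_add {U V : X.Opens} (hV : V ≤ U) (s t : Sec (homSheaf E N) U) (m : Sec E V) :
    cS (s + t) hV m = cS s hV m + cS t hV m := rfl

theorem cS_smul {U V : X.Opens} (hV : V ≤ U) (r : Γ(X, U)) (s : Sec (homSheaf E N) U) (m : Sec E V) :
    cS (r • s) hV m = resO X hV r • cS s hV m := rfl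

theorem cS_self_smul {U : X.Opens} (r : Γ(X, U)) (s : Sec (homSheaf E N) U) (m : Sec E U) :
    cS (r • s) le_rfl m = r • cS s le_rfl m := by
  rw [cS_smul, resO_self]

/-- Build a section of the internal Hom. -/
theorem exists_sec {U : X.Opens} (f : ∀ V : X.Opens, V ≤ U → (Sec E V →ₗ[Γ(X, V)] Sec N V))
    (hf : ∀ (V W : X.Opens) (hV : V ≤ U) (h : W ≤ V) (m : Sec E V),
      f W (h.trans hV) (res E h m) = res N h (f V hV m)) :
    ∃ s : Sec (homSheaf E N) U, ∀ (V : X.Opens) (hV : V ≤ U) (m : Sec E V), cS s hV m = f V hV m :=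
  ⟨mkSec (fun V hV => f V hV) (fun V W hV h m => hf V W hV h m), fun _ _ _ => rfl⟩

/-- Evaluation of the sections of the internal Hom on a family of sections of `E`. -/
noncomputable def ev (N : X.Modules) {U : X.Opens} {κ : Type*} (e : κ → Sec E U) {V : X.Opens} (hV : V ≤ U) :
    Sec (homSheaf E N) V →ₗ[Γ(X, V)] (κ → Sec N V) where
  toFun s j := cS s le_rfl (res E hV (e j))
  map_add' s t := rfl
  map_smul' r s := by
    funext j
    exact cS_self_smul r s _

theorem ev_apply {U : X.Opens} {κ : Type*} (e : κ → Sec E U) {V : X.Opens} (hV : V ≤ U)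
    (s : Sec (homSheaf E N) V) (j : κ) : ev N e hV s j = cS s le_rfl (res E hV (e j)) := rfl

theorem ev_res {U : X.Opens} {κ : Type*} (e : κ → Sec E U) {V W : X.Opens} (hV : V ≤ U) (hW : W ≤ V)
    (s : Sec (homSheaf E N) V) (j : κ) :
    ev N e (hW.trans hV) (res _ hW s) j = res N hW (ev N e hV s j) := by
  rw [ev_apply, ev_apply, cS_res, ← res_res E hV hW]
  exact res_cS le_rfl hW s _

theorem ev_bijective {U : X.Opens} {κ : Type*} [Fintype κ] {e : κ → Sec E U} (he : IsLocBasis e)
    {V : X.Opens} (hV : V ≤ U) : Function.Bijective (ev N e hV) := by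
  constructor
  · intro s t hst
    refine cS_ext fun W hW m => ?_
    obtain ⟨a, rfl⟩ := (he W (hW.trans hV)).2 m
    have key : ∀ s : Sec (homSheaf E N) V, cS s hW (comb e (hW.trans hV) a) =
        ∑ i, a i • res N hW (ev N e hV s i) := by
      intro s
      rw [comb_apply, map_sum]
      refine Finset.sum_congr rfl fun i _ => ?_
      rw [map_smul]
      congr 1
      rw [ev_apply, ← res_res E hV hW]
      exact res_cS le_rfl hW s _
    rw [key, key, hst]
  · intro n
    let f : ∀ W : X.Opens, W ≤ V → (Sec E W →ₗ[Γ(X, W)] Sec N W) := fun W hW =>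
      (he.basis (hW.trans hV)).constr Γ(X, W) (fun i => res N hW (n i))
    have hf : ∀ (W : X.Opens) (hW : W ≤ V) (a : κ → Γ(X, W)),
        f W hW (comb e (hW.trans hV) a) = ∑ i, a i • res N hW (n i) := by
      intro W hW a
      rw [comb_apply, map_sum]
      refine Finset.sum_congr rfl fun i _ => ?_
      rw [map_smul]
      congr 1
      have := (he.basis (hW.trans hV)).constr_basis Γ(X, W) (fun i => res N hW (n i)) i
      rw [IsLocBasis.basis_apply] at this
      exact this
    obtain ⟨s, hs⟩ := exists_sec (E := E) (N := N) f (by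
      intro W W' hW h m
      obtain ⟨a, rfl⟩ := (he W (hW.trans hV)).2 m
      rw [res_comb, hf W' (h.trans hW), hf W hW, map_sum]
      refine Finset.sum_congr rfl fun i _ => ?_
      rw [res_smul, res_res])
    refine ⟨s, ?_⟩
    funext j
    classical
    have h1 : res E hV (e j) = comb e hV (Pi.single j 1) := by
      rw [comb_apply, Finset.sum_eq_single j]
      · simp
      · intro i _ hi
        simp [hi]
      · simp
    rw [ev_apply, hs, h1, hf V le_rfl, Finset.sum_eq_single j]
    · simp
    · intro i _ hi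
      simp [hi]
    · simp

/-- The sections `e_i ↦ t` of the internal Hom. -/
noncomputable def hsec {U : X.Opens} {κ : Type*} [Fintype κ] [DecidableEq κ] {e : κ → Sec E U}
    (he : IsLocBasis e) (t : Sec N U) (i : κ) : Sec (homSheaf E N) U :=
  ((ev_bijective (N := N) he le_rfl).2 (Pi.single i t)).choose

theorem ev_hsec {U : X.Opens} {κ : Type*} [Fintype κ] [DecidableEq κ] {e : κ → Sec E U}
    (he : IsLocBasis e) (t : Sec N U) (i : κ) : ev N e le_rfl (hsec he t i) = Pi.single i t :=
  ((ev_bijective (N := N) he le_rfl).2 (Pi.single i t)).choose_spec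

theorem ev_res_hsec {U : X.Opens} {κ : Type*} [Fintype κ] [DecidableEq κ] {e : κ → Sec E U}
    (he : IsLocBasis e) (t : Sec N U) (i : κ) {V : X.Opens} (hV : V ≤ U) :
    ev N e hV (res _ hV (hsec he t i)) = Pi.single i (res N hV t) := by
  funext j
  have := ev_res (N := N) e le_rfl hV (hsec he t i) j
  refine this.trans ?_
  rw [ev_hsec]
  by_cases h : j = i
  · subst h; simp
  · simp [h]

/-- The local basis of the internal Hom `Hom(E, N)` for `N` locally generated by `t`. -/
theorem isLocBasis_hsec {U : X.Opens} {κ : Type*} [Fintype κ] [DecidableEq κ] {e : κ → Sec E U}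
    (he : IsLocBasis e) {t : Sec N U} (ht : IsLocBasis (fun _ : Fin 1 => t)) :
    IsLocBasis (hsec (N := N) he t) := by
  intro V hV
  have h1 : ∀ a : κ → Γ(X, V), ev N e hV (comb (hsec he t) hV a) =
      fun j => comb (fun _ : Fin 1 => t) hV (fun _ => a j) := by
    intro a
    rw [comb_apply, map_sum]
    funext j
    rw [Finset.sum_apply, comb_apply, Finset.sum_eq_single j]
    · rw [map_smul, ev_res_hsec]
      simp
    · intro i _ hi
      rw [map_smul, ev_res_hsec]
      simp [Ne.symm hi]
    · simp
  have h2 : Function.Bijective (fun a : Γ(X, V) => comb (fun _ : Fin 1 => t) hV (fun _ => a)) := by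
    refine (ht V hV).comp ⟨fun a b hab => congrFun hab 0, fun a => ⟨a 0, funext fun i => ?_⟩⟩
    rw [Subsingleton.elim i 0]
  have h3 : Function.Bijective ((ev N e hV) ∘ (comb (hsec (N := N) he t) hV)) := by
    have : (ev N e hV) ∘ (comb (hsec (N := N) he t) hV) =
        fun (a : κ → Γ(X, V)) (j : κ) => comb (fun _ : Fin 1 => t) hV (fun _ => a j) := funext h1
    rw [this]
    exact ⟨fun a b hab => funext fun j => h2.1 (congrFun hab j), fun y => by
      choose a ha using fun j => h2.2 (y j)
      exact ⟨a, funext ha⟩⟩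
  exact (Function.Bijective.of_comp_iff' (ev_bijective (N := N) he hV) _).1 h3

end Groth.Agent.Krr.H463.HomBasis
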