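import Groth.Agent.Krr.H463.HomBasis

/-!
# The isomorphism `Hom(E, O) ⊗ D ≅ Hom(E, D)` for `E` finite locally free and `D` invertible
-/

set_option autoImplicit false
universe u

open CategoryTheory CategoryTheory.Limits AlgebraicGeometry Opposite TopologicalSpace
open scoped TensorProduct

namespace Groth.Agent.Krr.H463.HomTensor

open Groth.Agent.Sga67.Sec Groth.Agent.Sga67.LocBasis
open Groth.Agent.CohqB.HomSheaf (homSheaf)
open Groth.Agent.Krr.H463.HomBasis
open Groth.Agent.Krr.H487.ExtPull (bijective_of_locBasis)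

variable {X : Scheme.{u}} {E D : X.Modules}

/-- The section `x ↦ f(x) d` of `Hom(E, D)`. -/
theorem exists_mul {U : X.Opens} (f : Sec (homSheaf E (Coh.structureModule X)) U) (d : Sec D U) :
    ∃ s : Sec (homSheaf E D) U, ∀ (V : X.Opens) (hV : V ≤ U) (m : Sec E V),
      cS s hV m = toO (cS f hV m) • res D hV d := by
  refine exists_sec (fun V hV =>
    { toFun := fun m => toO (cS f hV m) • res D hV d
      map_add' := fun m m' => by rw [map_add, toO_add, add_smul]
      map_smul' := fun r m => by rw [map_smul, toO_smul, mul_smul, RingHom.id_apply] }) ?_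
  intro V W hV h m
  simp only [LinearMap.coe_mk, AddHom.coe_mk]
  rw [res_cS, toO_res, res_smul, res_res]

/-- The section `x ↦ f(x) d` of `Hom(E, D)`. -/
noncomputable def mulS {U : X.Opens} (f : Sec (homSheaf E (Coh.structureModule X)) U) (d : Sec D U) :
    Sec (homSheaf E D) U := (exists_mul f d).choose

theorem cS_mulS {U : X.Opens} (f : Sec (homSheaf E (Coh.structureModule X)) U) (d : Sec D U)
    {V : X.Opens} (hV : V ≤ U) (m : Sec E V) :
    cS (mulS f d) hV m = toO (cS f hV m) • res D hV d := (exists_mul f d).choose_spec V hV m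

/-- The bilinear map. -/
noncomputable def mulB (E D : X.Modules) (U : X.Opens) :
    Sec (homSheaf E (Coh.structureModule X)) U →ₗ[Γ(X, U)] Sec D U →ₗ[Γ(X, U)] Sec (homSheaf E D) U :=
  LinearMap.mk₂ _ mulS
    (fun f f' d => cS_ext fun V hV m => by
      rw [cS_add, cS_mulS, cS_mulS, cS_mulS, cS_add, toO_add, add_smul])
    (fun r f d => cS_ext fun V hV m => by
      rw [cS_smul, cS_mulS, cS_mulS, cS_smul, toO_smul, mul_smul])
    (fun f d d' => cS_ext fun V hV m => by
      rw [cS_add, cS_mulS, cS_mulS, cS_mulS, map_add, smul_add])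
    (fun r f d => cS_ext fun V hV m => by
      rw [cS_smul, cS_mulS, cS_mulS, res_smul, smul_comm])

theorem allBasis (X : Scheme.{u}) : Opens.IsBasis (Set.range (fun U : X.Opens => U)) := by
  rw [Set.range_id']
  exact Opens.isBasis_iff_nbhd.mpr (fun {U x} hx => ⟨U, trivial, hx, le_rfl⟩)

theorem exists_kap (E D : X.Modules) :
    ∃ g : CohB1.tensorMod (homSheaf E (Coh.structureModule X)) D ⟶ homSheaf E D,
      ∀ (U : X.Opens) (f : Sec (homSheaf E (Coh.structureModule X)) U) (d : Sec D U),
        appS g U (tau _ _ U (f ⊗ₜ[Γ(X, U)] d)) = mulS f d := by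
  obtain ⟨g, hg⟩ := exists_tensor_hom (allBasis X) (homSheaf E (Coh.structureModule X)) D (homSheaf E D)
    (fun U => TensorProduct.lift (mulB E D U))
    (by
      intro U V h f d
      rw [TensorProduct.lift.tmul, TensorProduct.lift.tmul]
      change mulS (res _ h f) (res _ h d) = res _ h (mulS f d)
      refine cS_ext fun W hW m => ?_
      rw [cS_mulS, cS_res, cS_res, cS_mulS, res_res])
  refine ⟨g, fun U f d => ?_⟩
  rw [hg U, TensorProduct.lift.tmul]
  rfl

theorem ev_mulS_hsec {U : X.Opens} {κ : Type*} [Fintype κ] [DecidableEq κ] {e : κ → Sec E U}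
    (he : IsLocBasis e) (d : Sec D U) (i : κ) :
    mulS (hsec (N := Coh.structureModule X) he (one X U) i) d = hsec he d i := by
  apply (ev_bijective (N := D) he le_rfl).1
  rw [ev_hsec]
  funext j
  rw [ev_apply, cS_mulS]
  have h1 := congrFun (ev_hsec (N := Coh.structureModule X) he (one X U) i) j
  rw [ev_apply] at h1
  rw [h1, res_self]
  by_cases h : j = i
  · subst h
    rw [Pi.single_eq_same, Pi.single_eq_same, toO_one, _root_.one_smul]
  · rw [Pi.single_eq_of_ne h, Pi.single_eq_of_ne h, toO_zero, zero_smul]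

theorem isLocBasis_one' (X : Scheme.{u}) (U : X.Opens) : IsLocBasis (fun _ : Fin 1 => one X U) := by
  have := (Sga67.TensorOps.isLocBasis_one (X := X)).restrict (le_top : U ≤ ⊤)
  simpa only [res_one] using this

/-- `Hom(E, O) ⊗ D ≅ Hom(E, D)`. -/
theorem nonempty_iso (hE : FlatMod.IsFinLocFree E) (hD : FlatMod.IsFinLocFreeOfRank 1 D) :
    Nonempty (CohB1.tensorMod (homSheaf E (Coh.structureModule X)) D ≅ homSheaf E D) := by
  obtain ⟨g, hg⟩ := exists_kap E D
  have : IsIso g := isIso_of_bijective g (by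
    intro x U hxU
    obtain ⟨U₁, n, hx₁, e₁, he₁⟩ := (isFinLocFree_iff _).mp hE x
    obtain ⟨U₂, hx₂, hU₂⟩ := hD x
    obtain ⟨d₂, hd₂⟩ := nonempty_restrict_iso_iff.mp hU₂
    let V : X.Opens := U ⊓ U₁ ⊓ U₂
    have hV1 : V ≤ U₁ := inf_le_left.trans inf_le_right
    have hV2 : V ≤ U₂ := inf_le_right
    refine ⟨V, inf_le_left.trans inf_le_left, ⟨⟨hxU, hx₁⟩, hx₂⟩, ?_⟩
    have he := he₁.restrict hV1
    have hd := hd₂.restrict hV2
    have hd' : IsLocBasis (fun _ : Fin 1 => res D hV2 (d₂ 0)) := by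
      convert hd using 2 with i
      rw [Subsingleton.elim i 0]
    have h1 := isLocBasis_hsec (N := Coh.structureModule X) he (isLocBasis_one' X V)
    have h2 := isLocBasis_tensor h1 hd'
    have h3 := (isLocBasis_hsec (N := D) he hd').reindex (Equiv.prodUnique (Fin n) (Fin 1))
    refine bijective_of_locBasis g h2 h3 (fun p => ?_) le_rfl
    rw [hg V]
    exact ev_mulS_hsec he _ p.1)
  exact ⟨asIso g⟩

end Groth.Agent.Krr.H463.HomTensor
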